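import Cfsg.Agent.Lib.Fischer.Relations.Involutions.Twenty
import Cfsg.Agent.Lib.Linear.PSUSimple
import Mathlib.GroupTheory.IsPerfect

/-!
# The centralizer of two commuting members in type M(23)
-/

set_option autoImplicit false
set_option linter.unusedSectionVars false

namespace Cfsg.Lib.Fischer.Relations

open Module Cfsg Cfsg.Lib.Fischer Cfsg.Lib.Linear.Herm Cfsg.Lib.Fischer.RadicalAbelian
open scoped commutatorElement

variable {G : Type*} [Group G] [Finite G] {D : Set G}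

/-- Coordinates in the quotient, with the isomorphism type of its neighbourhood group. -/
theorem exists_coord23_iso {d : G} (K : M23Data D d) :
    ∃ (F : Type) (_ : Field F) (_ : Fintype F) (hF : Fintype.card F = 2 ^ 2) (b : G) (hb : b ∈ perp D d),
      Nonempty (Coord (image (perp D d)) (bar hb) hF) ∧
      Nonempty (↥(Subgroup.closure (perp (image (perp D d)) (bar hb))) ⧸
        Subgroup.center ↥(Subgroup.closure (perp (image (perp D d)) (bar hb))) ≃* Cfsg.PSU 6 F 2) := by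
  obtain ⟨hZ, e, he, c, -, -, ⟨F, i1, i2, hF, ⟨iso⟩⟩, -⟩ := K.img
  have hF' : Fintype.card F = 2 ^ 2 := hF
  obtain ⟨b, hb, rfl⟩ := exists_bar he
  have hT := K.imgTrans
  obtain ⟨f, hf⟩ := perp_nonempty_of_psu (D := image (perp D d)) hF' iso
  have hw : ∃ a ∈ image (perp D d), ∃ b ∈ image (perp D d), a ≠ b ∧ Commute a b :=
    ⟨_, bar_mem hb, f, hf.1, Ne.symm hf.2.1, hf.2.2⟩
  have hsep := sep_of_core hT K.imgPrim.2.1 (core_le_center_of_primitive hT K.imgPrim hw).1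
  obtain ⟨U⟩ := exists_udata hT hsep (bar_mem hb) hF' iso
  exact ⟨F, i1, i2, hF', b, hb, exists_coord K.imgFis K.imgPrim hZ hsep
    (fun a ha => by obtain ⟨g, rfl⟩ := hT.trans _ (bar_mem hb) a ha; exact ⟨U.conj hT g⟩) (bar_mem hb) iso, ⟨iso⟩⟩

theorem mem_centralizer_pair {d b k : G} :
    k ∈ Subgroup.centralizer ({d, b} : Set G) ↔ Commute k d ∧ Commute k b := by
  rw [Subgroup.mem_centralizer_iff]
  simp only [Set.mem_insert_iff, Set.mem_singleton_iff, forall_eq_or_imp, forall_eq]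
  exact ⟨fun h => ⟨h.1.symm, h.2.symm⟩, fun h => ⟨h.1.eq.symm, h.2.eq.symm⟩⟩

/-- The centralizer of some commuting pair: perfect, with centre the pair, and `PSU(6, 2)` on top. -/
theorem m23_pair_base (hT : Trans D) (hprim : Cfsg.IsPrimitiveUnderConj D) (h23 : Cfsg.IsOfTypeM23 G D) :
    ∃ d b : G, d ∈ D ∧ b ∈ perp D d ∧ Cfsg.IsQuasisimple ↥(Subgroup.centralizer ({d, b} : Set G)) ∧
      (Subgroup.center ↥(Subgroup.centralizer ({d, b} : Set G))).map (Subgroup.centralizer ({d, b} : Set G)).subtype =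
        Subgroup.closure ({d, b} : Set G) ∧
      ∃ (F : Type) (_ : Field F) (_ : Fintype F), Fintype.card F = 4 ∧
        Nonempty (↥(Subgroup.centralizer ({d, b} : Set G)) ⧸
          Subgroup.center ↥(Subgroup.centralizer ({d, b} : Set G)) ≃* Cfsg.PSU 6 F 2) := by
  classical
  obtain ⟨d, K⟩ := m23_data hT hprim h23 fun c hc Q hQ =>
    Dvd.dvd.trans (by norm_num) (ReflSeven.quot_dvd Q hQ hc)
  obtain ⟨F, _, _, hF, b, hb, ⟨Co⟩, ⟨iso⟩⟩ := exists_coord23_iso K
  have C : Coord23 D d b hF := ⟨K, hb, Co⟩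
  refine ⟨d, b, K.mem, hb, ?_⟩
  have hsub : ∀ x ∈ perp D d, x ∈ D := fun x hx => hx.1
  obtain ⟨K0, hK0⟩ : ∃ K0, K0 = Subgroup.centralizer ({d, b} : Set G) := ⟨_, rfl⟩
  rw [← hK0]
  have hmem : ∀ k, k ∈ K0 ↔ Commute k d ∧ Commute k b := fun k => by rw [hK0, mem_centralizer_pair]
  have hH : ∀ k, Commute k d → k ∈ Subgroup.closure (perp D d) := fun k hk => by
    rw [C.centralizer_eq]
    exact Subgroup.mem_centralizer_singleton_iff.2 hk
  have hdb : Commute d b := hb.2.2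
  have hdK : d ∈ K0 := (hmem d).2 ⟨Commute.refl d, hdb⟩
  have hbK : b ∈ K0 := (hmem b).2 ⟨hdb.symm, Commute.refl b⟩
  -- the map onto the centralizer in the quotient
  obtain ⟨T, hTdef⟩ : ∃ T, T = Subgroup.closure (perp (image (perp D d)) (bar hb)) := ⟨_, rfl⟩
  have hTcen : T = Subgroup.centralizer ({bar hb} : Set _) := hTdef ▸ Co.centralizer_eq
  have hin : ∀ k : ↥K0, pmk (hH k ((hmem k).1 k.2).1) ∈ T := fun k => by
    rw [hTcen, Subgroup.mem_centralizer_singleton_iff]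
    exact congrArg (QuotientGroup.mk) (Subtype.ext ((hmem k).1 k.2).2.eq : (⟨(k : G), hH k ((hmem k).1 k.2).1⟩ *
      ⟨b, Subgroup.subset_closure hb⟩ : ↥(Subgroup.closure (perp D d))) = _)
  obtain ⟨ρ, hρ⟩ : ∃ ρ : ↥K0 →* ↥T, ∀ k, (ρ k : _) = pmk (hH k ((hmem k).1 k.2).1) :=
    ⟨MonoidHom.mk' (fun k => ⟨_, hin k⟩) fun k l => Subtype.ext rfl, fun _ => rfl⟩
  have hρs : Function.Surjective ρ := by
    rintro ⟨q, hq⟩
    obtain ⟨⟨k, hk⟩, rfl⟩ := QuotientGroup.mk_surjective q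
    have hkd := K.commute_of_mem hk
    have hq' := hq
    rw [hTcen, Subgroup.mem_centralizer_singleton_iff] at hq'
    have hkb : k * b * k⁻¹ = b := bar_inj hT hsub K.nc (K.conj_mem hkd hb) hb
      ((mul_inv_eq_iff_eq_mul.2 hq' : _) : bar (K.conj_mem hkd hb) = bar hb)
    exact ⟨⟨k, (hmem k).2 ⟨hkd, mul_inv_eq_iff_eq_mul.1 hkb⟩⟩, Subtype.ext (hρ _)⟩
  have hσs : Function.Surjective (QuotientGroup.mk' (Subgroup.center ↥T) |>.comp ρ) :=
    (QuotientGroup.mk'_surjective _).comp hρs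
  subst hTdef
  -- the kernel is the pair
  obtain ⟨π, hπ⟩ : ∃ π : ↥K0 →* Cfsg.PSU 6 F 2,
      π = iso.toMonoidHom.comp ((QuotientGroup.mk' _).comp ρ) := ⟨_, rfl⟩
  have hπs : Function.Surjective π := by rw [hπ]; exact iso.surjective.comp hσs
  have hdK' : (⟨d, hdK⟩ : ↥K0) ∈ Subgroup.center ↥K0 :=
    Subgroup.mem_center_iff.2 fun k => Subtype.ext ((hmem k).1 k.2).1.eq
  have hbK' : (⟨b, hbK⟩ : ↥K0) ∈ Subgroup.center ↥K0 :=
    Subgroup.mem_center_iff.2 fun k => Subtype.ext ((hmem k).1 k.2).2.eq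
  obtain ⟨V, hV⟩ : ∃ V, V = Subgroup.closure ({⟨d, hdK⟩, ⟨b, hbK⟩} : Set ↥K0) := ⟨_, rfl⟩
  have hVc : V ≤ Subgroup.center ↥K0 := by
    rw [hV, Subgroup.closure_le]
    rintro x (rfl | rfl)
    exacts [hdK', hbK']
  have hker : ∀ k, π k = 1 → k ∈ V := by
    intro k hk
    rw [hπ] at hk
    have h1 : ρ k ∈ Subgroup.center ↥(Subgroup.closure (perp (image (perp D d)) (bar hb))) :=
      (QuotientGroup.eq_one_iff _).1 ((map_eq_one_iff iso iso.injective).1 hk)
    have hd' : d ∈ V.map K0.subtype :=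
      ⟨⟨d, hdK⟩, hV ▸ Subgroup.subset_closure (Set.mem_insert _ _), rfl⟩
    have hb' : b ∈ V.map K0.subtype :=
      ⟨⟨b, hbK⟩, hV ▸ Subgroup.subset_closure (Set.mem_insert_of_mem _ rfl), rfl⟩
    suffices h : (k : G) ∈ V.map K0.subtype by
      obtain ⟨v, hv, e⟩ := h
      exact Subtype.ext e ▸ hv
    rcases eq_or_eq_of_centralizes Co.fis Co.nbr Co.mem Co.prim Co.cen
        (Co.commute_of_mem (ρ k).2) (fun y hy => (congrArg Subtype.val
          (Subgroup.mem_center_iff.1 h1 ⟨y, Subgroup.subset_closure hy⟩)).symm) with e | e <;> rw [hρ] at e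
    · rcases K.eq_of_mk (one_mem _) (hH k ((hmem k).1 k.2).1) (e.trans (QuotientGroup.mk_one _).symm).symm with e' | e'
      · rw [e']; exact one_mem _
      · rw [e', one_mul]; exact hd'
    · rcases K.eq_of_mk (Subgroup.subset_closure hb) (hH k ((hmem k).1 k.2).1) e.symm with e' | e'
      · rw [e']; exact hb'
      · rw [e']; exact mul_mem hb' hd'
  -- PSU(6, 2) is simple and not abelian
  have hsimp : IsSimpleGroup (Cfsg.PSU 6 F 2) := Cfsg.Lib.Linear.Herm.psu_simple hF (by norm_num)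
  have hnab : ¬ ∀ p q : Cfsg.PSU 6 F 2, Commute p q := by
    intro h
    obtain ⟨hbT, hperf⟩ := perp_perfect Co.fis Co.nbr Co.mem Co.prim Co.cen Co.sep
    obtain ⟨S, hS⟩ : ∃ S, S = Subgroup.closure (perp (image (perp D d)) (bar hb)) := ⟨_, rfl⟩
    have hcen : ∀ x ∈ ⁅S, S⁆, ∀ y ∈ S, Commute x y := by
      intro x hx y hy
      have hle : ⁅S, S⁆ ≤ Subgroup.centralizer (S : Set _) := by
        refine Subgroup.commutator_le.2 fun p hp q hq => Subgroup.mem_centralizer_iff.2 fun z hz => ?_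
        subst hS
        have e : ⁅(⟨p, hp⟩ : ↥(Subgroup.closure _)), ⟨q, hq⟩⁆ ∈ Subgroup.center ↥(Subgroup.closure _) := by
          rw [← QuotientGroup.eq_one_iff]
          refine (map_eq_one_iff iso iso.injective).1 ?_
          rw [← QuotientGroup.mk'_apply, map_commutatorElement, map_commutatorElement]
          exact commutatorElement_eq_one_iff_commute.2 (h _ _)
        exact congrArg Subtype.val (Subgroup.mem_center_iff.1 e ⟨z, hz⟩)
      exact (Subgroup.mem_centralizer_iff.1 (hle hx) y hy).symm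
    rw [← hS] at hperf
    obtain ⟨s, hs, -⟩ := Co.exists_point (pv_ne_zero (Or.inl one_ne_zero)) (pv_orth hF (1 : F) 0 0 1 0 0)
    obtain ⟨t, ht, hst⟩ := Co.U.exists_noncommute (fourField hF) (hB_isSymm hF 6) (hB_nondegenerate hF 6)
      (by rw [finrank_fin_fun]; norm_num) hs
    exact hst (hcen s (hperf.symm ▸ hS ▸ Subgroup.subset_closure hs) t (hS ▸ Subgroup.subset_closure ht))
  have hcP : Subgroup.center (Cfsg.PSU 6 F 2) = ⊥ :=
    (Subgroup.Normal.eq_bot_or_eq_top inferInstance).resolve_right fun h => hnab fun p q =>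
      (Subgroup.mem_center_iff.1 (h ▸ Subgroup.mem_top q : q ∈ Subgroup.center _) p)
  have hcomP : commutator (Cfsg.PSU 6 F 2) = ⊤ :=
    (Subgroup.Normal.eq_bot_or_eq_top (inferInstance : (commutator (Cfsg.PSU 6 F 2)).Normal)).resolve_left
      fun h => hnab fun p q => commutatorElement_eq_one_iff_commute.1 (by
        rw [← Subgroup.mem_bot, ← h, commutator_def]
        exact Subgroup.commutator_mem_commutator (Subgroup.mem_top p) (Subgroup.mem_top q))
  have hcenter : Subgroup.center ↥K0 = V := by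
    refine le_antisymm (fun k hk => hker k ?_) hVc
    rw [← Subgroup.mem_bot, ← hcP, Subgroup.mem_center_iff]
    intro p
    obtain ⟨l, rfl⟩ := hπs p
    rw [← map_mul, ← map_mul, Subgroup.mem_center_iff.1 hk l]
  have hkereq : π.ker = Subgroup.center ↥K0 := by
    refine le_antisymm (fun k hk => hcenter ▸ hker k hk) fun k hk => ?_
    rw [MonoidHom.mem_ker, ← Subgroup.mem_bot, ← hcP, Subgroup.mem_center_iff]
    intro p
    obtain ⟨l, rfl⟩ := hπs p
    rw [← map_mul, ← map_mul, Subgroup.mem_center_iff.1 hk l]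
  -- products of two members in the derived group
  obtain ⟨m, M, hm⟩ := C.exists_lm
  have hmK : ∀ {x : G} (hx : x ∈ perp D d), bar hx ∈ perp (image (perp D d)) (bar hb) → x ∈ K0 :=
    fun {x} hx hxb => (hmem x).2 ⟨hx.2.2.symm, ((bar_commute hT hsub hb hx).1 hxb.2.2).symm⟩
  have hpair : ∀ {x y : G} (hx : x ∈ perp D d) (hy : y ∈ perp D d), bar hx ∈ perp (image (perp D d)) (bar hb) →
      bar hy ∈ perp (image (perp D d)) (bar hb) → x * y ∈ ⁅K0, K0⁆ := by
    intro x y hx hy hxb hyb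
    obtain ⟨r, hr, er⟩ := perp_transitive K.imgFis (bar_mem hb) hxb hyb
    obtain ⟨⟨k, hk⟩, hke⟩ := hρs ⟨r, hr⟩
    have hkq : pmk (hH k ((hmem k).1 hk).1) = r := (hρ ⟨k, hk⟩).symm.trans (congrArg Subtype.val hke)
    have e : k * x * k⁻¹ = y := by
      refine bar_inj hT hsub K.nc (K.conj_mem ((hmem k).1 hk).1 hx) hy ?_
      rw [← er, ← hkq]
      rfl
    have := Subgroup.commutator_mem_commutator (hmK hx hxb) hk
    rwa [commutatorElement_def, inv_eq hT hx.1, mul_assoc x k, mul_assoc x, e] at this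
  obtain ⟨ω, hω⟩ := Linear.exists_omega (fourField hF) (hB_isSymm hF 6) (hB_nondegenerate hF 6)
  obtain ⟨-, hsurj⟩ := C.six_products hm hω
  have hsix : ∀ z, (z = d ∨ z = b) → z ∈ ⁅K0, K0⁆ := by
    intro z hz
    obtain ⟨l, -, hl⟩ := hsurj z (by tauto)
    have hp : ∀ a b' c : F, a ≠ 0 ∨ b' ≠ 0 ∨ c ≠ 0 →
        ∃ hx : m a b' c ∈ perp D d, bar hx ∈ perp (image (perp D d)) (bar hb) := fun a b' c h => by
      obtain ⟨h1, e1, h2, -⟩ := hm a b' c h
      exact ⟨h1, e1 ▸ h2⟩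
    obtain ⟨a1, b1⟩ := hp 1 0 0 (Or.inl one_ne_zero)
    obtain ⟨a2, b2⟩ := hp 0 1 0 (Or.inr (Or.inl one_ne_zero))
    obtain ⟨a3, b3⟩ := hp 0 0 1 (Or.inr (Or.inr one_ne_zero))
    obtain ⟨a4, b4⟩ := hp 1 1 l (Or.inl one_ne_zero)
    obtain ⟨a5, b5⟩ := hp 1 ω (l * frob hF ω) (Or.inl one_ne_zero)
    obtain ⟨a6, b6⟩ := hp 1 (frob hF ω) (l * ω) (Or.inl one_ne_zero)
    refine (congrArg (· ∈ ⁅K0, K0⁆) hl).mp ?_
    have := mul_mem (mul_mem (hpair a1 a2 b1 b2) (hpair a3 a4 b3 b4)) (hpair a5 a6 b5 b6)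
    simpa [mul_assoc] using this
  have hperf : Group.IsPerfect ↥K0 := by
    refine Subgroup.isPerfect_iff.2 (le_antisymm (Subgroup.commutator_le.2 fun x hx y hy =>
      mul_mem (mul_mem (mul_mem hx hy) (inv_mem hx)) (inv_mem hy)) fun x hx => ?_)
    have hcl : (V.map K0.subtype : Subgroup G) ≤ ⁅K0, K0⁆ := by
      rw [hV, MonoidHom.map_closure, Subgroup.closure_le]
      rintro _ ⟨v, (rfl | rfl), rfl⟩
      exacts [hsix d (Or.inl rfl), hsix b (Or.inr rfl)]
    have h : π ⟨x, hx⟩ ∈ (commutator ↥K0).map π := by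
      rw [commutator_def, Subgroup.map_commutator, Subgroup.map_top_of_surjective π hπs, ← commutator_def, hcomP]
      exact Subgroup.mem_top _
    obtain ⟨y, hy, ey⟩ := h
    have hv : y⁻¹ * ⟨x, hx⟩ ∈ V := hker _ (by rw [map_mul, map_inv, ey, inv_mul_cancel])
    have hy' : (y : G) ∈ ⁅K0, K0⁆ := by
      have := Subgroup.mem_map_of_mem K0.subtype hy
      rw [commutator_def, Subgroup.map_commutator, ← MonoidHom.range_eq_map, Subgroup.range_subtype] at this
      exact this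
    have hv' : (y : G)⁻¹ * x ∈ ⁅K0, K0⁆ := hcl ⟨_, hv, rfl⟩
    simpa using mul_mem hy' hv'
  let e6 : ↥K0 ⧸ Subgroup.center ↥K0 ≃* Cfsg.PSU 6 F 2 :=
    (QuotientGroup.quotientMulEquivOfEq hkereq.symm).trans (QuotientGroup.quotientKerEquivOfSurjective π hπs)
  refine ⟨⟨hperf, e6.isSimpleGroup⟩, ?_, F, inferInstance, inferInstance, by rw [hF]; norm_num, ⟨e6⟩⟩
  rw [hcenter, hV, MonoidHom.map_closure, Set.image_insert_eq, Set.image_singleton]
  rfl

end Cfsg.Lib.Fischer.Relations
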